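import Groth.Agent.HensPair.SteinEtale
import Groth.Agent.Pi1FEt.FiberFun
import Groth.Agent.Pi1FEt.Points
import Groth.Agent.Pi1Etale.Reduced
import Groth.Agent.Pi1Etale.EqLocus
import Groth.Agent.GrpschAbsch.H0General
import Mathlib.AlgebraicGeometry.AlgClosed.Basic

/-!
# Covers with a section on a geometric fibre descend to the base
-/

universe u

set_option autoImplicit false
set_option backward.isDefEq.respectTransparency false
set_option backward.defeqAttrib.useBackward true
set_option linter.style.haveILetI false

open CategoryTheory Limits AlgebraicGeometry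

namespace Groth.Pi1Homotopy

theorem geometricallyReduced_of_algClosed {X S : Scheme.{u}} (f : X ⟶ S)
    (hred : ∀ (Ω : Type u) [Field Ω] [IsAlgClosed Ω] (σ : Spec (CommRingCat.of Ω) ⟶ S),
      IsReduced (pullback f σ)) : GeometricallyReduced f := by
  refine ⟨fun K _ y P fst snd hP => ?_⟩
  let E := AlgebraicClosure K
  let k : Spec (CommRingCat.of E) ⟶ Spec (CommRingCat.of K) :=
    Spec.map (CommRingCat.ofHom (algebraMap K E))
  have : Flat k := (HasRingHomProperty.Spec_iff (P := @Flat)).mpr
    (RingHom.flat_algebraMap_iff.mpr inferInstance)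
  have : Surjective k := ⟨fun y => ⟨Classical.arbitrary _, Subsingleton.elim _ _⟩⟩
  have hr := hred E (k ≫ y)
  let l : pullback f (k ≫ y) ⟶ P := hP.lift (pullback.fst _ _) (pullback.snd _ _ ≫ k)
    (by rw [pullback.condition, Category.assoc])
  have hl : IsPullback l (pullback.snd f (k ≫ y)) snd k :=
    IsPullback.of_right (by rw [hP.lift_fst]; exact IsPullback.of_hasPullback _ _) (hP.lift_snd _ _ _) hP
  have : Flat l := MorphismProperty.of_isPullback hl.flip ‹_›
  have : Surjective l := MorphismProperty.of_isPullback hl.flip ‹_›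
  exact Groth.Agf.isReduced_of_flat_surjective l

/-- Finite etale covers have geometrically reduced fibres over the base. -/
theorem geometricallyReduced_comp {Y X S : Scheme.{u}} (p : Y ⟶ X) [IsFinite p] [Etale p] (f : X ⟶ S)
    [GeometricallyReduced f] : GeometricallyReduced (p ≫ f) := by
  refine geometricallyReduced_of_algClosed _ fun Ω _ _ σ => ?_
  haveI : IsReduced (pullback f σ) :=
    GeometricallyReduced.geometrically_isReduced (f := f) _ _ _ (IsPullback.of_hasPullback f σ)
  haveI : IsReduced (pullback p (pullback.fst f σ)) := by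
    haveI : IsFinite (pullback.snd p (pullback.fst f σ)) := MorphismProperty.pullback_snd _ _ inferInstance
    haveI : Etale (pullback.snd p (pullback.fst f σ)) := MorphismProperty.pullback_snd _ _ inferInstance
    exact Pi1Etale.isReduced_of_isFinite_etale (pullback.snd p (pullback.fst f σ))
  exact isReduced_of_isOpenImmersion (pullbackRightPullbackFstIso f σ p).inv

/-- A connected finite etale cover with a section on a geometric fibre comes from the base. -/
theorem essImage_of_section {X S : Scheme.{u}} (f : X ⟶ S) [IsProper f] [Flat f]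
    [LocallyOfFinitePresentation f] [GeometricallyReduced f] [GeometricallyConnected f]
    (Y : FEt.Cat X) [ConnectedSpace Y.left] {Ω : Type u} [Field Ω] [IsAlgClosed Ω]
    (s : Spec (CommRingCat.of Ω) ⟶ S) (σ : pullback f s ⟶ Y.left) (hσ : σ ≫ Y.hom = pullback.fst f s) :
    (FEt.restrict f).essImage Y := by
  haveI : IsFinite Y.hom := Y.prop.1
  haveI : Etale Y.hom := Y.prop.2
  let g : Y.left ⟶ S := Y.hom ≫ f
  haveI : GeometricallyReduced g := geometricallyReduced_comp Y.hom f
  obtain ⟨hπfin, hπet⟩ := Groth.HensPair.SteinEtale.etale_fromNormalization g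
  obtain ⟨hnp, hnf, hnl, -, hnc⟩ := Groth.HensPair.SteinEtale.toNormalization_props g
  let n := g.toNormalization
  let π := g.fromNormalization
  have hnπ : n ≫ π = g := g.toNormalization_fromNormalization
  haveI : ConnectedSpace ↥g.normalization :=
    (Scheme.Hom.surjective n).connectedSpace n.continuous
  let ψ : Y.left ⟶ pullback π f := pullback.lift n Y.hom hnπ
  haveI : ConnectedSpace ↥(pullback π f) := inferInstance
  haveI : IsFinite (ψ ≫ pullback.snd π f) := by rw [pullback.lift_snd]; infer_instance
  haveI : Etale (ψ ≫ pullback.snd π f) := by rw [pullback.lift_snd]; infer_instance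
  haveI : IsFinite (pullback.snd π f) := MorphismProperty.pullback_snd _ _ hπfin
  haveI : Etale (pullback.snd π f) := MorphismProperty.pullback_snd _ _ hπet
  haveI : IsFinite ψ := IsFinite.of_comp ψ (pullback.snd π f)
  haveI : Etale ψ := Etale.of_comp ψ (pullback.snd π f)
  -- a rational point of the fibre
  haveI : ConnectedSpace ↥(pullback f s) :=
    GeometricallyConnected.geometrically_connectedSpace (f := f) _ _ _ (IsPullback.of_hasPullback f s)
  haveI : JacobsonSpace ↥(pullback f s) := LocallyOfFiniteType.jacobsonSpace (pullback.snd f s)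
  obtain ⟨x, -, hx⟩ := nonempty_inter_closedPoints
    (Z := (Set.univ : Set ↥(pullback f s))) Set.univ_nonempty isClosed_univ.isLocallyClosed
  let x₀ := pointOfClosedPoint (pullback.snd f s) x hx
  have hx₀ : x₀ ≫ pullback.snd f s = 𝟙 _ := pointOfClosedPoint_comp _ _ _
  let s' : Spec (CommRingCat.of Ω) ⟶ g.normalization := x₀ ≫ σ ≫ n
  have hσg : (σ ≫ n) ≫ π = pullback.snd f s ≫ s := by
    rw [Category.assoc, hnπ, ← Category.assoc, hσ, pullback.condition]
  have hs'π : s' ≫ π = s := by
    rw [Category.assoc, hσg, ← Category.assoc, hx₀, Category.id_comp]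
  haveI : FormallyUnramified π := inferInstance
  have hσn : σ ≫ n = pullback.snd f s ≫ s' := by
    refine Pi1Etale.eq_of_comp_eq_of_connected π _ _ (by rw [hσg, Category.assoc, hs'π]) x₀ ?_
    rw [← Category.assoc x₀ (pullback.snd f s), hx₀, Category.id_comp]
  -- the fibre of `n` at `s'` is the image of the section
  let σ' : pullback f s ⟶ pullback n s' := pullback.lift σ (pullback.snd f s) hσn
  let w : pullback n s' ⟶ pullback f s :=
    pullback.lift (pullback.fst n s' ≫ Y.hom) (pullback.snd n s') (by
      rw [Category.assoc]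
      change pullback.fst n s' ≫ g = _
      refine (congrArg (pullback.fst n s' ≫ ·) hnπ.symm).trans ?_
      rw [← Category.assoc, pullback.condition, Category.assoc, hs'π])
  have hσw : σ' ≫ w = 𝟙 _ := by
    apply pullback.hom_ext
    · rw [Category.assoc, pullback.lift_fst, pullback.lift_fst_assoc, hσ, Category.id_comp]
    · rw [Category.assoc, pullback.lift_snd, pullback.lift_snd, Category.id_comp]
  haveI : ConnectedSpace ↥(pullback n s') :=
    GeometricallyConnected.geometrically_connectedSpace (f := n) _ _ _ (IsPullback.of_hasPullback n s')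
  have hfst : pullback.fst n s' = w ≫ σ := by
    refine Pi1Etale.eq_of_comp_eq_of_connected Y.hom _ _ ?_ σ' ?_
    · rw [Category.assoc, hσ, pullback.lift_fst]
    · rw [← Category.assoc, hσw, Category.id_comp, pullback.lift_fst]
  -- `ψ` has one point over `(s', x₀)`
  let ξ : Spec (CommRingCat.of Ω) ⟶ pullback π f :=
    pullback.lift s' (x₀ ≫ pullback.fst f s) (by
      rw [hs'π, Category.assoc, pullback.condition, ← Category.assoc, hx₀, Category.id_comp])
  let A : FEt.Cat (pullback π f) := MorphismProperty.Over.mk ⊤ ψ ⟨inferInstance, inferInstance⟩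
  have huniq : ∀ y : FEt.fiberObj ξ A, y.1 = x₀ ≫ σ := by
    rintro ⟨y, hy⟩
    have h1 : y ≫ n = s' := by
      have := congrArg (· ≫ pullback.fst π f) hy
      simpa [A, ψ, ξ, Category.assoc, pullback.lift_fst] using this
    have h2 : y ≫ Y.hom = x₀ ≫ pullback.fst f s := by
      have := congrArg (· ≫ pullback.snd π f) hy
      simpa [A, ψ, ξ, Category.assoc, pullback.lift_snd] using this
    let q : Spec (CommRingCat.of Ω) ⟶ pullback n s' :=
      pullback.lift y (𝟙 _) (by rw [h1, Category.id_comp])
    have hq : q ≫ w = x₀ := by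
      apply pullback.hom_ext
      · rw [Category.assoc, pullback.lift_fst, pullback.lift_fst_assoc, h2]
      · rw [Category.assoc, pullback.lift_snd, pullback.lift_snd, hx₀]
    calc y = q ≫ pullback.fst n s' := (pullback.lift_fst _ _ _).symm
      _ = x₀ ≫ σ := by rw [hfst, ← Category.assoc, hq]
  have hmem : (x₀ ≫ σ) ≫ ψ = ξ := by
    apply pullback.hom_ext
    · simp only [ψ, ξ, s', Category.assoc, pullback.lift_fst]
    · simp only [ψ, ξ, Category.assoc, pullback.lift_snd, hσ]
  have hcard : Nat.card (FEt.fiberObj ξ A) = 1 := by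
    rw [Nat.card_eq_one_iff_unique]
    exact ⟨⟨fun y y' => Subtype.ext ((huniq y).trans (huniq y').symm)⟩, ⟨⟨_, hmem⟩⟩⟩
  haveI : IsFinite A.hom := A.prop.1
  haveI : Etale A.hom := A.prop.2
  rw [Pi1FEt.natCard_fiberObj ξ A] at hcard
  change ψ.finrank (ξ default) = 1 at hcard
  haveI : IsIso ψ := by
    rw [Scheme.Hom.isIso_iff_finrank_eq]
    exact funext fun b =>
      ((Scheme.Hom.isLocallyConstant_finrank ψ).apply_eq_of_preconnectedSpace b (ξ default)).trans hcard
  exact ⟨MorphismProperty.Over.mk ⊤ π ⟨hπfin, hπet⟩,
    ⟨(MorphismProperty.Over.isoMk (asIso ψ) (pullback.lift_snd _ _ _)).symm⟩⟩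

end Groth.Pi1Homotopy
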