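import Groth.Agent.HensPair.SteinEtale
import Groth.Agent.HensPair.Couple
import Groth.Agent.Pi1FEt.FiberUnique
import Groth.Agent.Pi1Inv.Henselian
import Groth.Agent.Pi1Homotopy.Section
import Groth.Agent.Pi1PBC.Points

/-!
# The specialisation map over a strictly henselian base is surjective
-/

universe u

set_option autoImplicit false
set_option backward.isDefEq.respectTransparency false
set_option backward.defeqAttrib.useBackward true
set_option linter.style.haveILetI false

open CategoryTheory Limits AlgebraicGeometry IsLocalRing Groth.HensPair CommAlgCat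

namespace Groth.Pi1Homotopy

/-- A geometrically connected open map induces a bijection on clopens. -/
theorem clopenBij_geometricallyConnected {W S : Scheme.{u}} (n : W ⟶ S) [GeometricallyConnected n]
    (hn : IsOpenMap n.base) : ClopenBij n.base := by
  have hq := hn.isQuotientMap n.continuous n.surjective
  intro V hV
  have hsat : n.base ⁻¹' (n.base '' V) = V := by
    refine Set.Subset.antisymm ?_ (Set.subset_preimage_image _ _)
    rintro a ⟨b, hb, hab⟩
    exact (n.isConnected_preimage_singleton (n b)).isPreconnected.subset_isClopen hV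
      ⟨b, rfl, hb⟩ (show n a ∈ ({n b} : Set S) from hab.symm)
  refine ⟨n.base '' V, ⟨⟨?_, ?_⟩, hsat⟩, fun U hU => ?_⟩
  · rw [← hq.isClosed_preimage, hsat]; exact hV.1
  · rw [← hq.isOpen_preimage, hsat]; exact hV.2
  · rw [← hU.2, Set.image_preimage_eq _ hq.surjective]

/-- Clopen bijections along a commutative square. -/
theorem clopenBij_of_square {W W' S S' : Type*} [TopologicalSpace W] [TopologicalSpace W']
    [TopologicalSpace S] [TopologicalSpace S'] {q : W' → W} {n : W → S} {r : W' → S'} {p : S' → S}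
    (hn : Continuous n) (hp : Continuous p) (hcomm : n ∘ q = p ∘ r)
    (bn : ClopenBij n) (br : ClopenBij r) (bp : ClopenBij p) : ClopenBij q := by
  intro V hV
  obtain ⟨U₁, ⟨hU₁, hU₁V⟩, hu₁⟩ := br V hV
  obtain ⟨U, ⟨hU, hUU₁⟩, hu⟩ := bp U₁ hU₁
  refine ⟨n ⁻¹' U, ⟨hU.preimage hn, ?_⟩, fun X hX => ?_⟩
  · rw [← Set.preimage_comp, hcomm, Set.preimage_comp, hUU₁, hU₁V]
  · obtain ⟨U', ⟨hU', hU'X⟩, -⟩ := bn X hX.1
    rw [← hU'X, hu U' ⟨hU', hu₁ _ ⟨hU'.preimage hp, ?_⟩⟩]
    rw [← Set.preimage_comp, ← hcomm, Set.preimage_comp, hU'X, hX.2]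

variable (A : Type u) [CommRing A] [HenselianLocalRing A] [IsSepClosed (ResidueField A)]

/-- Over a strictly henselian ring every geometric point gives an equivalence on finite etale covers. -/
theorem isEquivalence_geomPoint {Ω : Type u} [Field Ω] [IsAlgClosed Ω]
    (t : Spec (CommRingCat.of Ω) ⟶ Spec (CommRingCat.of A)) : (FEt.restrict t).IsEquivalence := by
  haveI : ConnectedSpace ↥(Spec (CommRingCat.of A)) := Pi1PBC.connectedSpace_spec A
  let K := AlgebraicClosure (ResidueField A)
  let b : Spec (CommRingCat.of K) ⟶ Spec (CommRingCat.of (ResidueField A)) :=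
    Spec.map (CommRingCat.ofHom (algebraMap (ResidueField A) K))
  let c : Spec (CommRingCat.of (ResidueField A)) ⟶ Spec (CommRingCat.of A) :=
    Spec.map (CommRingCat.ofHom (algebraMap A (ResidueField A)))
  haveI : (FEt.restrict c).IsEquivalence := Pi1Inv.restrict_isEquivalence A (maximalIdeal A)
  haveI : (FEt.restrict b).IsEquivalence := by
    haveI : IsIntegralHom b := by
      rw [IsIntegralHom.SpecMap_iff]
      exact Algebra.IsIntegral.isIntegral (R := ResidueField A) (A := K)
    haveI : Surjective b := ⟨fun z => ⟨Classical.arbitrary _, Subsingleton.elim _ _⟩⟩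
    haveI : UniversallyInjective b := by
      haveI : IsPurelyInseparable (ResidueField A) K := inferInstance
      exact (Groth.HTopHyper.universallyInjective_SpecMap_iff _).2 fun L _ d₁ d₂ e =>
        IsPurelyInseparable.injective_comp_algebraMap (ResidueField A) K L e
    exact Groth.Agent.S0289.result b
  haveI : (FEt.restrict (b ≫ c)).IsEquivalence :=
    Functor.isEquivalence_of_iso (Pi1FEt.restrictCompIso b c).symm
  letI := Pi1FEt.preGaloisCategory (Spec (CommRingCat.of A))
  haveI := Pi1FEt.fiberFunctor_fiberFun (b ≫ c)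
  haveI := Pi1FEt.fiberFunctor_fiberFun t
  haveI : GaloisCategory (FEt.Cat (Spec (CommRingCat.of A))) :=
    ⟨Pi1FEt.fiberFun t, ⟨inferInstance⟩⟩
  obtain ⟨e⟩ := Groth.Pi1Galois.nonempty_iso_of_exact (Pi1FEt.fiberFun t) (Pi1FEt.fiberFun (b ≫ c))
  haveI : (Pi1FEt.fiberFun (b ≫ c)).IsEquivalence :=
    inferInstanceAs ((FEt.restrict (b ≫ c) ⋙ (Pi1FEt.specFun K).inv ⋙
      FiniteEtale.fiber.{u} K K)).IsEquivalence
  haveI : (FEt.restrict t ⋙ (Pi1FEt.specFun Ω).inv ⋙ FiniteEtale.fiber.{u} Ω Ω).IsEquivalence :=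
    Functor.isEquivalence_of_iso e
  exact Functor.isEquivalence_of_comp_right _ ((Pi1FEt.specFun Ω).inv ⋙ FiniteEtale.fiber.{u} Ω Ω)

variable {A}

/-- Clopens of a finite etale scheme over a strictly henselian ring and of a geometric fibre. -/
theorem clopenBij_geomPoint {S' : Scheme.{u}} (π : S' ⟶ Spec (CommRingCat.of A)) [IsFinite π] [Etale π]
    {Ω : Type u} [Field Ω] [IsAlgClosed Ω] (t : Spec (CommRingCat.of Ω) ⟶ Spec (CommRingCat.of A)) :
    ClopenBij (pullback.fst π t).base := by
  haveI := isEquivalence_geomPoint A t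
  let B : FEt.Cat (Spec (CommRingCat.of A)) := MorphismProperty.Over.mk ⊤ π ⟨inferInstance, inferInstance⟩
  let T : FEt.Cat (Spec (CommRingCat.of A)) :=
    MorphismProperty.Over.mk ⊤ (𝟙 _) ⟨inferInstance, inferInstance⟩
  -- every point of the fibre lies on a section
  have hsec : ∀ y : Spec (CommRingCat.of Ω) ⟶ pullback π t, y ≫ pullback.snd π t = 𝟙 _ →
      ∃ s : Spec (CommRingCat.of A) ⟶ S', s ≫ π = 𝟙 _ ∧ t ≫ s = y ≫ pullback.fst π t := by
    intro y hy
    let φ : (FEt.restrict t).obj T ⟶ (FEt.restrict t).obj B :=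
      MorphismProperty.Over.homMk (pullback.snd (𝟙 _) t ≫ y)
        ((Category.assoc _ _ _).trans ((congrArg (_ ≫ ·) hy).trans (Category.comp_id _))) trivial
    let u : T ⟶ B := (FEt.restrict t).preimage φ
    have hu : ((FEt.restrict t).map u).left = pullback.snd (𝟙 _) t ≫ y :=
      congrArg (fun m => m.left) ((FEt.restrict t).map_preimage φ)
    have hw : u.left ≫ π = 𝟙 _ := MorphismProperty.Over.w u
    refine ⟨u.left, hw, ?_⟩
    let l : Spec (CommRingCat.of Ω) ⟶ pullback (𝟙 (Spec (CommRingCat.of A))) t :=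
      pullback.lift t (𝟙 _) (by simp)
    have h1 := congrArg (fun m => l ≫ m ≫ pullback.fst π t) hu
    have h2 : ((FEt.restrict t).map u).left ≫ pullback.fst π t = pullback.fst (𝟙 _) t ≫ u.left :=
      Pi1FEt.restrict_map_left_fst u t
    have h3 : l ≫ pullback.fst (𝟙 _) t ≫ u.left = t ≫ u.left :=
      pullback.lift_fst_assoc _ _ _ _
    have h4 : l ≫ (pullback.snd (𝟙 _) t ≫ y) ≫ pullback.fst π t = y ≫ pullback.fst π t := by
      rw [Category.assoc]
      exact (pullback.lift_snd_assoc _ _ _ _).trans (Category.id_comp _)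
    exact h3.symm.trans (((congrArg (l ≫ ·) h2).symm.trans h1).trans h4)
  haveI : IsFinite (pullback.snd π t) := MorphismProperty.pullback_snd _ _ inferInstance
  haveI : Etale (pullback.snd π t) := MorphismProperty.pullback_snd _ _ inferInstance
  haveI : IsLocallyArtinian (Spec (CommRingCat.of Ω)) :=
    Scheme.isLocallyArtinianScheme_Spec.mpr (inferInstanceAs (IsArtinianRing Ω))
  haveI : IsLocallyArtinian (pullback π t) := .of_locallyQuasiFinite (pullback.snd π t)
  haveI : CompactSpace ↥(pullback π t) :=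
    QuasiCompact.compactSpace_of_compactSpace (pullback.snd π t)
  haveI : Finite ↥(pullback π t) := finite_of_compact_of_discrete
  haveI : ConnectedSpace ↥(Spec (CommRingCat.of A)) := Pi1PBC.connectedSpace_spec A
  have hpt : ∀ z : ↥(pullback π t), IsClosed ({z} : Set ↥(pullback π t)) :=
    fun z => isClosed_discrete _
  intro V hV
  choose s hsπ hst using fun z : ↥(pullback π t) =>
    hsec (pointOfClosedPoint (pullback.snd π t) z (hpt z)) (pointOfClosedPoint_comp _ _ _)
  have hfib : ∀ (z w : ↥(pullback π t)), pullback.fst π t w ∈ Set.range (s z).base → w = z := by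
    intro z w hw
    let y := pointOfClosedPoint (pullback.snd π t) w (hpt w)
    haveI : IsOpenImmersion (s z) := by
      haveI : Etale (s z ≫ π) := by rw [hsπ]; infer_instance
      haveI : Etale (s z) := Etale.of_comp (s z) π
      haveI : Mono (s z) := mono_of_mono_fac (hsπ z)
      exact IsOpenImmersion.of_flat_of_mono _
    have hrange : Set.range (y ≫ pullback.fst π t).base ⊆ Set.range (s z).base := by
      rintro _ ⟨x, rfl⟩
      rw [Scheme.Hom.comp_apply, pointOfClosedPoint_apply]
      exact hw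
    have hl : IsOpenImmersion.lift (s z) (y ≫ pullback.fst π t) hrange = t := by
      have := congrArg (· ≫ π) (IsOpenImmersion.lift_fac (s z) _ hrange)
      rw [Category.assoc, hsπ, Category.comp_id, Category.assoc, pullback.condition, ← Category.assoc,
        pointOfClosedPoint_comp, Category.id_comp] at this
      exact this
    have h1 : y ≫ pullback.fst π t = pointOfClosedPoint (pullback.snd π t) z (hpt z) ≫ pullback.fst π t :=
      ((IsOpenImmersion.lift_fac (s z) _ hrange).symm.trans (congrArg (· ≫ s z) hl)).trans (hst z)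
    have h2 : y = pointOfClosedPoint (pullback.snd π t) z (hpt z) :=
      pullback.hom_ext h1 (by rw [pointOfClosedPoint_comp, pointOfClosedPoint_comp])
    have := congrArg (fun m => m default) h2
    simpa [y] using this
  have hclopen : ∀ z, IsClopen (Set.range (s z).base) := fun z => by
    haveI : Etale (s z ≫ π) := by rw [hsπ]; infer_instance
    haveI : Etale (s z) := Etale.of_comp (s z) π
    haveI : IsFinite (s z ≫ π) := by rw [hsπ]; infer_instance
    haveI : IsFinite (s z) := IsFinite.of_comp (s z) π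
    exact ⟨(s z).isClosedMap.isClosed_range, (s z).isOpenMap.isOpen_range⟩
  have hmem : ∀ z, pullback.fst π t z ∈ Set.range (s z).base := fun z => by
    refine ⟨t default, ?_⟩
    rw [← Scheme.Hom.comp_apply, hst z, Scheme.Hom.comp_apply, pointOfClosedPoint_apply]
  refine ⟨⋃ z ∈ V, Set.range (s z).base, ⟨?_, ?_⟩, fun U hU => ?_⟩
  · exact Set.Finite.isClopen_biUnion (Set.toFinite V) fun z _ => hclopen z
  · ext w
    simp only [Set.mem_preimage, Set.mem_iUnion, exists_prop]
    exact ⟨fun ⟨z, hz, hw⟩ => hfib z w hw ▸ hz, fun hw => ⟨w, hw, hmem w⟩⟩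
  · set U₀ := ⋃ z ∈ V, Set.range (s z).base
    have hU₀ : IsClopen U₀ := Set.Finite.isClopen_biUnion (Set.toFinite V) fun z _ => hclopen z
    have hU₀V : ∀ w, pullback.fst π t w ∈ U₀ ↔ w ∈ V := fun w => by
      simp only [U₀, Set.mem_iUnion, exists_prop]
      exact ⟨fun ⟨z, hz, hw⟩ => hfib z w hw ▸ hz, fun hw => ⟨w, hw, hmem w⟩⟩
    by_contra hne
    have hD : IsClopen ((U \ U₀) ∪ (U₀ \ U)) := (hU.1.diff hU₀).union (hU₀.diff hU.1)
    have hne' : ((U \ U₀) ∪ (U₀ \ U)).Nonempty := by
      rw [Set.nonempty_iff_ne_empty, ne_eq, Set.union_empty_iff, Set.sdiff_eq_empty, Set.sdiff_eq_empty]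
      exact fun h => hne (Set.Subset.antisymm h.1 h.2)
    have huniv : π.base '' ((U \ U₀) ∪ (U₀ \ U)) = Set.univ :=
      IsClopen.eq_univ ⟨π.isClosedMap _ hD.1, π.isOpenMap _ hD.2⟩ (hne'.image _)
    obtain ⟨d, hd, hdt⟩ := huniv.symm ▸ Set.mem_univ (t default)
    obtain ⟨w, hw, -⟩ := Scheme.Pullback.exists_preimage_pullback (f := π) (g := t) d default hdt
    have hwU : pullback.fst π t w ∈ U ↔ w ∈ V := by
      rw [← hU.2]; rfl
    rw [hw] at hwU
    have := hU₀V w
    rw [hw] at this
    rcases hd with ⟨h₁, h₂⟩ | ⟨h₁, h₂⟩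
    · exact h₂ (this.2 (hwU.1 h₁))
    · exact h₂ (hwU.2 (this.1 h₁))

/-- Full faithfulness of restriction to a geometric fibre over a strictly henselian ring. -/
theorem clopenBij_fibre {W : Scheme.{u}} (g : W ⟶ Spec (CommRingCat.of A)) [IsProper g] [Flat g]
    [LocallyOfFinitePresentation g] [GeometricallyReduced g] {Ω : Type u} [Field Ω] [IsAlgClosed Ω]
    (t : Spec (CommRingCat.of Ω) ⟶ Spec (CommRingCat.of A)) {W' : Scheme.{u}} (q : W' ⟶ W)
    (r : W' ⟶ Spec (CommRingCat.of Ω)) (sq : IsPullback q r g t) : ClopenBij q.base := by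
  obtain ⟨hπfin, hπet⟩ := Groth.HensPair.SteinEtale.etale_fromNormalization g
  obtain ⟨hnp, hnf, hnl, -, hnc⟩ := Groth.HensPair.SteinEtale.toNormalization_props g
  let n := g.toNormalization
  let π := g.fromNormalization
  have hnπ : n ≫ π = g := g.toNormalization_fromNormalization
  let r' : W' ⟶ pullback π t := pullback.lift (q ≫ n) r (by rw [Category.assoc, hnπ]; exact sq.w)
  have sq' : IsPullback q r' n (pullback.fst π t) := by
    refine IsPullback.of_bot ?_ (pullback.lift_fst _ _ _).symm (IsPullback.of_hasPullback π t)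
    rw [pullback.lift_snd, hnπ]
    exact sq
  haveI : GeometricallyConnected r' := MorphismProperty.of_isPullback sq' hnc
  haveI : Flat r' := MorphismProperty.of_isPullback sq' hnf
  haveI : LocallyOfFinitePresentation r' := MorphismProperty.of_isPullback sq' hnl
  refine clopenBij_of_square n.continuous (pullback.fst π t).continuous ?_
    (clopenBij_geometricallyConnected n n.isOpenMap)
    (clopenBij_geometricallyConnected r' r'.isOpenMap) (clopenBij_geomPoint π t)
  funext x
  simp only [Function.comp_apply, ← Scheme.Hom.comp_apply, sq'.w]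

end Groth.Pi1Homotopy
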